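import Mathlib

/-!
# A field extension of an algebraically closed field dominated, with both factors, by an algebra of finite type
(helper19)
-/

set_option autoImplicit false

universe u

open TensorProduct Polynomial Topology

namespace Groth.Agent.Helper19.KPt

/-- the map `K[X] ⟶ K ⊗[k] K`, `X ↦ 1 ⊗ a`. -/
noncomputable def psi (k K : Type u) [Field k] [Field K] [Algebra k K] (a : K) : K[X] →ₐ[K] K ⊗[k] K :=
  (Algebra.TensorProduct.map (AlgHom.id K K) (aeval a : k[X] →ₐ[k] K)).comp
    (polyEquivTensor' k K).toAlgHom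

theorem psi_X (k K : Type u) [Field k] [Field K] [Algebra k K] (a : K) :
    psi k K a X = 1 ⊗ₜ[k] a := by
  simp [psi]

theorem psi_injective (k K : Type u) [Field k] [Field K] [Algebra k K] (a : K)
    (ha : Transcendental k a) : Function.Injective (psi k K a) := by
  have h1 : Function.Injective (aeval a : k[X] →ₐ[k] K) := transcendental_iff_injective.1 ha
  have h2 : Function.Injective ((aeval a : k[X] →ₐ[k] K).toLinearMap.lTensor K) :=
    Module.Flat.lTensor_preserves_injective_linearMap _ h1
  intro p q hpq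
  apply (polyEquivTensor' k K).injective
  apply h2
  exact hpq

/-- the generic point of the affine line over `K` lifts to `K ⊗[k] K` along `X ↦ 1 ⊗ a`, `a` transcendental. -/
theorem exists_prime_comap_psi_eq_bot (k K : Type u) [Field k] [Field K] [Algebra k K] (a : K)
    (ha : Transcendental k a) :
    ∃ 𝔮 : Ideal (K ⊗[k] K), 𝔮.IsPrime ∧ 𝔮.comap (psi k K a).toRingHom = ⊥ := by
  have hmin : (⊥ : Ideal K[X]) ∈ minimalPrimes K[X] := by
    rw [IsDomain.minimalPrimes_eq_singleton_bot]
    exact Set.mem_singleton _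
  obtain ⟨𝔮, h𝔮, h⟩ := Ideal.exists_comap_eq_of_mem_minimalPrimes_of_injective
    (f := (psi k K a).toRingHom) (psi_injective k K a ha) ⊥ hmin
  exact ⟨𝔮, h𝔮, h⟩

/-- **Chevalley on the affine line**: a finitely presented `K[X]`-algebra whose spectrum hits the generic point hits
`X - c` for some `c` in any given infinite set. -/
theorem exists_mem_range_comap_of_bot_mem {K : Type u} [Field K] {B : Type u} [CommRing B]
    (θ : K[X] →+* B) (hθ : θ.FinitePresentation)
    (hbot : (⊥ : PrimeSpectrum K[X]) ∈ Set.range (PrimeSpectrum.comap θ)) (s : Set K) (hs : s.Infinite) :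
    ∃ c ∈ s, ∃ 𝔯 : PrimeSpectrum B, X - C c ∈ (PrimeSpectrum.comap θ 𝔯).asIdeal := by
  classical
  have hE : IsConstructible (Set.range (PrimeSpectrum.comap θ)) := PrimeSpectrum.isConstructible_range_comap hθ
  obtain ⟨D, hD⟩ := PrimeSpectrum.exists_constructibleSetData_iff.2 hE
  rw [← hD, PrimeSpectrum.ConstructibleSetData.toSet] at hbot
  simp only [Set.mem_iUnion] at hbot
  obtain ⟨Cd, hCd, hmem⟩ := hbot
  rw [PrimeSpectrum.BasicConstructibleSetData.toSet] at hmem
  obtain ⟨hg, hf⟩ := hmem
  have hg0 : ∀ i, Cd.g i = 0 := by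
    intro i
    have := (PrimeSpectrum.mem_zeroLocus _ _).1 hg (Set.mem_range_self i)
    simpa using this
  have hf0 : Cd.f ≠ 0 := by
    intro h0
    apply hf
    rw [PrimeSpectrum.mem_zeroLocus]
    rintro _ rfl
    rw [h0]
    exact Ideal.zero_mem _
  -- a point of `s` which is not a root
  have hfin : (Cd.f.roots.toFinset : Set K).Finite := Finset.finite_toSet _
  obtain ⟨c, hcs, hc⟩ := (hs.diff hfin).nonempty
  refine ⟨c, hcs, ?_⟩
  have hroot : ¬ Cd.f.IsRoot c := by
    intro hr
    apply hc
    simp only [Finset.mem_coe, Multiset.mem_toFinset]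
    exact (mem_roots hf0).2 hr
  let 𝔪 : PrimeSpectrum K[X] := ⟨Ideal.span {X - C c},
    (Ideal.span_singleton_prime (X_sub_C_ne_zero c)).2 (prime_X_sub_C c)⟩
  have h𝔪 : 𝔪 ∈ Set.range (PrimeSpectrum.comap θ) := by
    rw [← hD, PrimeSpectrum.ConstructibleSetData.toSet]
    simp only [Set.mem_iUnion]
    refine ⟨Cd, hCd, ?_, ?_⟩
    · rw [PrimeSpectrum.mem_zeroLocus]
      rintro _ ⟨i, rfl⟩
      rw [hg0 i]
      exact Ideal.zero_mem _
    · intro hz
      rw [PrimeSpectrum.mem_zeroLocus] at hz
      have : Cd.f ∈ Ideal.span {X - C c} := hz (Set.mem_singleton _)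
      rw [Ideal.mem_span_singleton, dvd_iff_isRoot] at this
      exact hroot this
  obtain ⟨𝔯, h𝔯⟩ := h𝔪
  refine ⟨𝔯, ?_⟩
  rw [h𝔯]
  exact Ideal.subset_span (Set.mem_singleton _)

end Groth.Agent.Helper19.KPt

namespace Groth.Agent.Helper19.KPt

/-- the algebraic core: no prime of a finite type `K`-algebra `B` (via `l`) can make `r a` transcendental over `l K`,
when `r : K ⟶ B` agrees with `l` on the algebraically closed subfield `k` and `a ∉ k`. -/
theorem false_of_transcendental_prime (k K : Type u) [Field k] [IsAlgClosed k] [Field K] [Algebra k K]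
    {B : Type u} [CommRing B] (l r : K →+* B)
    (hlr : l.comp (algebraMap k K) = r.comp (algebraMap k K)) (hl : l.FiniteType)
    (a : K) (ha : a ∉ Set.range (algebraMap k K)) (𝔯 : Ideal B) [𝔯.IsPrime]
    (h𝔯 : ∀ p : K[X], p ≠ 0 → Polynomial.eval₂ l (r a) p ∉ 𝔯) : False := by
  let θ : K[X] →+* B := Polynomial.eval₂RingHom l (r a)
  have hθC : θ.comp (C : K →+* K[X]) = l := by
    ext x
    simp [θ]
  have hlfp : l.FinitePresentation := RingHom.FinitePresentation.of_finiteType.1 hl
  have hθ : θ.FinitePresentation := by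
    refine RingHom.FinitePresentation.of_comp_finiteType (C : K →+* K[X]) ?_ ?_
    · rw [hθC]
      exact hlfp
    · have : Algebra.FiniteType K K[X] := inferInstance
      exact RingHom.finiteType_algebraMap.2 this
  have hbot : (⊥ : PrimeSpectrum K[X]) ∈ Set.range (PrimeSpectrum.comap θ) := by
    refine ⟨⟨𝔯, inferInstance⟩, ?_⟩
    ext p
    change θ p ∈ 𝔯 ↔ p ∈ (⊥ : Ideal K[X])
    rw [Ideal.mem_bot]
    constructor
    · intro hp
      by_contra hne
      exact h𝔯 p hne hp
    · rintro rfl
      rw [map_zero]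
      exact Ideal.zero_mem _
  have hinf : (Set.range (algebraMap k K)).Infinite :=
    Set.infinite_range_of_injective (algebraMap k K).injective
  obtain ⟨c, ⟨c₀, rfl⟩, 𝔯', h'⟩ := exists_mem_range_comap_of_bot_mem θ hθ hbot _ hinf
  have h1 : θ (X - C (algebraMap k K c₀)) ∈ 𝔯'.asIdeal := h'
  have h2 : θ (X - C (algebraMap k K c₀)) = r (a - algebraMap k K c₀) := by
    have e : l (algebraMap k K c₀) = r (algebraMap k K c₀) := by
      have := congrArg (fun f => f c₀) hlr
      exact this
    simp [θ, e]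
  rw [h2] at h1
  have hne : a - algebraMap k K c₀ ≠ 0 := by
    intro h0
    apply ha
    exact ⟨c₀, (sub_eq_zero.1 h0).symm⟩
  have hu : IsUnit (r (a - algebraMap k K c₀)) := (IsUnit.mk0 _ hne).map r
  exact 𝔯'.isPrime.ne_top (Ideal.eq_top_of_isUnit_mem _ h1 hu)

end Groth.Agent.Helper19.KPt
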