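import Mathlib
import Groth.Agent.Lib.Helper19.DiagQcN.IsoPt

/-!
# Comparing charts with equal points (helper19)
-/

set_option autoImplicit false
set_option backward.isDefEq.respectTransparency false

universe w₅ v₅ w₄ v₄ w₃ v₃ w' v' w v u

open CategoryTheory CategoryTheory.Limits Functor AlgebraicGeometry Opposite

namespace Groth.Agent.Helper19.KPt

open FibCat AlgSt Stk Groth.Agent.Helper19.FibLib Groth.Agent.Helper19.StLib
  Groth.Agent.Helper19.ChartOver Groth.Agent.Helper19.StPts Groth.Agent.Helper19.QcPts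
  Groth.Agent.Helper19.MonoQc Groth.Agent.Helper19.DiagQcN

variable {S : Scheme.{u}}

/-- the functor of a morphism determines the morphism. -/
theorem eq_of_overMap_iso {U V : Over S} (a b : U ⟶ V) (η : overMap a ≅ overMap b) : a = b := by
  let X : (overCat U).obj := Over.mk (𝟙 U)
  let φ : (overMap a).obj X ⟶ (overMap b).obj X := η.hom.toNatTrans.app X
  have hlift : (overCat V).p.IsHomLift (𝟙 ((overCat U).p.obj X)) φ := η.hom.isHomLift' X
  have h1 : (overCat V).p.map φ = 𝟙 U := by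
    have := IsHomLift.fac' (overCat V).p (𝟙 ((overCat U).p.obj X)) φ
    simp only [eqToHom_refl, Category.id_comp, Category.comp_id] at this
    exact this
  have h3 : CommaMorphism.left φ = 𝟙 U := h1
  exact ((Category.id_comp a).symm.trans ((Over.w φ).symm.trans
    ((congrArg (fun m => m ≫ (𝟙 U ≫ b)) h3).trans ((Category.id_comp _).trans (Category.id_comp b)))))

variable {𝒴 : AlgSt.Cat S}

/-- two charts with a common point become isomorphic over a field. -/
theorem exists_field_iso_of_ofChart_eq (h𝒴 : IsFibGrpd 𝒴.p) {U U' : Over S}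
    (x : overCat U ⥤ᵇ 𝒴) (x' : overCat U' ⥤ᵇ 𝒴) (p : ↥U.left) (p' : ↥U'.left)
    (h : Points.ofChart x p = Points.ofChart x' p') :
    ∃ (Ω : Type u) (_ : Field Ω) (str : Spec (CommRingCat.of Ω) ⟶ S) (w : Over.mk str ⟶ U)
      (w' : Over.mk str ⟶ U'),
      Nonempty (BasedFunctor.comp (overMap w) x ≅ BasedFunctor.comp (overMap w') x') := by
  have hfp : IsFibGrpd (fp x x').p :=
    Groth.Agent.Helper19.FpFibU.isFibGrpd_fp _ _ (isFibGrpd_overCat U) (isFibGrpd_overCat U') h𝒴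
  rw [ofChart_eq, ofChart_eq] at h
  obtain ⟨ψ, -, -⟩ := exists_points_fp_of_map_eq (isFibGrpd_overCat U') h𝒴 (isFibGrpd_overCat U) x' x
    (chartPt U p) (chartPt U' p') h
  obtain ⟨Ω, _, str, G, t₀, -⟩ := exists_field_chart_of_point hfp ψ
  obtain ⟨w, ⟨η⟩⟩ := exists_overMap_iso (BasedFunctor.comp G (fpFst x x'))
  obtain ⟨w', ⟨η'⟩⟩ := exists_overMap_iso (BasedFunctor.comp G (fpSnd x x'))
  refine ⟨Ω, inferInstance, str, w, w', ⟨?_⟩⟩
  have e1 : BasedFunctor.comp (overMap w) x ≅ BasedFunctor.comp (BasedFunctor.comp G (fpFst x x')) x :=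
    whiskerRightIso η.symm x
  have e2 : BasedFunctor.comp (BasedFunctor.comp G (fpFst x x')) x ≅
      BasedFunctor.comp (BasedFunctor.comp G (fpSnd x x')) x' :=
    eqToIso (BasedFunctor.comp_assoc _ _ _) ≪≫
      whiskerLeftIso G (fpIso x x') ≪≫ eqToIso (BasedFunctor.comp_assoc _ _ _).symm
  have e3 : BasedFunctor.comp (BasedFunctor.comp G (fpSnd x x')) x' ≅ BasedFunctor.comp (overMap w') x' :=
    whiskerRightIso η' x'
  exact e1 ≪≫ e2 ≪≫ e3

/-- if the diagonal of `q` is surjective on points, two charts with isomorphic images under `q` become isomorphic over a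
field. -/
theorem exists_field_iso_of_isSurjective_diag {𝒵 ℬ : AlgSt.Cat S} (h𝒵 : IsFibGrpd 𝒵.p) (hℬ : IsFibGrpd ℬ.p)
    (q : 𝒵 ⥤ᵇ ℬ) (hΔ : AlgSt.IsSurjective (FibCat.diag q)) {U : Over S} (A B : overCat U ⥤ᵇ 𝒵)
    (θ : BasedFunctor.comp A q ≅ BasedFunctor.comp B q) (t : ↥U.left) :
    ∃ (Ω : Type u) (_ : Field Ω) (str : Spec (CommRingCat.of Ω) ⟶ S) (w : Over.mk str ⟶ U),
      Nonempty (BasedFunctor.comp (overMap w) A ≅ BasedFunctor.comp (overMap w) B) := by
  have hfp : IsFibGrpd (fp q q).p := Groth.Agent.Helper19.FpFibU.isFibGrpd_fp _ _ h𝒵 h𝒵 hℬ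
  let y₀ : overCat U ⥤ᵇ fp q q := fpLift A B θ
  obtain ⟨ξ, hξ⟩ := hΔ (Points.ofChart y₀ t)
  obtain ⟨K, _, strK, G, t₀, hG⟩ := exists_field_chart_of_point h𝒵 ξ
  have h1 : Points.ofChart (BasedFunctor.comp G (FibCat.diag q)) t₀ = Points.ofChart y₀ t := by
    rw [← map_ofChart, hG, hξ]
  obtain ⟨Ω, _, str, w, w', ⟨κ⟩⟩ := exists_field_iso_of_ofChart_eq hfp
    (BasedFunctor.comp G (FibCat.diag q)) y₀ t₀ t h1
  refine ⟨Ω, inferInstance, str, w', ⟨?_⟩⟩
  have ρ : ∀ (pr : fp q q ⥤ᵇ 𝒵), BasedFunctor.comp (FibCat.diag q) pr = BasedFunctor.id 𝒵 →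
      (BasedFunctor.comp (overMap w') (BasedFunctor.comp y₀ pr) ≅ BasedFunctor.comp (overMap w) G) :=
    fun pr hpr =>
      eqToIso (BasedFunctor.comp_assoc _ _ _).symm ≪≫ whiskerRightIso κ.symm pr ≪≫
        eqToIso (by rw [BasedFunctor.comp_assoc, BasedFunctor.comp_assoc, hpr, BasedFunctor.comp_id])
  have r1 : BasedFunctor.comp (FibCat.diag q) (fpFst q q) = BasedFunctor.id 𝒵 := rfl
  have r2 : BasedFunctor.comp (FibCat.diag q) (fpSnd q q) = BasedFunctor.id 𝒵 := rfl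
  exact ρ (fpFst q q) r1 ≪≫ (ρ (fpSnd q q) r2).symm

end Groth.Agent.Helper19.KPt
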