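import Mathlib
import Groth.Agent.Lib.Helper19.KPt.Alg

/-!
# A field over an algebraically closed field `k` which is "its own fibre square up to finite type" equals `k`
(helper19)
-/

set_option autoImplicit false

universe u

open TensorProduct Polynomial CategoryTheory AlgebraicGeometry

namespace Groth.Agent.Helper19.KPt

/-- Let `K / k` be a field extension, `k` algebraically closed, and `U` a scheme with two morphisms to `Spec K` agreeing
over `Spec k`, the first locally of finite type, such that every pair of `L`-points of `Spec K` agreeing over `Spec k`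
lifts to `U` after a field extension.  Then `K = k`. -/
theorem surjective_algebraMap_of_cover (k K : Type u) [Field k] [IsAlgClosed k] [Field K] [Algebra k K]
    (U : Scheme.{u}) (u₁ u₂ : U ⟶ Spec (CommRingCat.of K)) [LocallyOfFiniteType u₁]
    (hu : u₁ ≫ Spec.map (CommRingCat.ofHom (algebraMap k K)) =
      u₂ ≫ Spec.map (CommRingCat.ofHom (algebraMap k K)))
    (H : ∀ (L : Type u) [Field L] (a b : Spec (CommRingCat.of L) ⟶ Spec (CommRingCat.of K)),
      a ≫ Spec.map (CommRingCat.ofHom (algebraMap k K)) = b ≫ Spec.map (CommRingCat.ofHom (algebraMap k K)) →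
      ∃ (L' : Type u) (_ : Field L') (e : Spec (CommRingCat.of L') ⟶ Spec (CommRingCat.of L))
        (w : Spec (CommRingCat.of L') ⟶ U), w ≫ u₁ = e ≫ a ∧ w ≫ u₂ = e ≫ b) :
    Function.Surjective (algebraMap k K) := by
  classical
  by_contra hns
  rw [Function.Surjective] at hns
  push_neg at hns
  obtain ⟨ā, hā⟩ := hns
  have ha : ā ∉ Set.range (algebraMap k K) := fun ⟨c, hc⟩ => hā c hc
  have htr : Transcendental k ā := by
    intro halg
    apply ha
    have hint : IsIntegral k ā := halg.isIntegral
    have := minpoly.mem_range_of_degree_eq_one k ā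
      (IsAlgClosed.degree_eq_one_of_irreducible k (minpoly.irreducible hint))
    exact RingHom.mem_range.1 this
  obtain ⟨𝔮, h𝔮, hcomap⟩ := exists_prime_comap_psi_eq_bot k K ā htr
  let L : Type u := 𝔮.ResidueField
  let iL : K ⊗[k] K →+* L := algebraMap (K ⊗[k] K) 𝔮.ResidueField
  let j₁ : K →+* K ⊗[k] K := Algebra.TensorProduct.includeLeftRingHom
  let j₂ : K →+* K ⊗[k] K := (Algebra.TensorProduct.includeRight : K →ₐ[k] K ⊗[k] K).toRingHom
  let a : Spec (CommRingCat.of L) ⟶ Spec (CommRingCat.of K) := Spec.map (CommRingCat.ofHom (iL.comp j₁))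
  let b : Spec (CommRingCat.of L) ⟶ Spec (CommRingCat.of K) := Spec.map (CommRingCat.ofHom (iL.comp j₂))
  have hj : j₁.comp (algebraMap k K) = j₂.comp (algebraMap k K) := by
    ext c
    change (algebraMap k K c) ⊗ₜ[k] (1 : K) = (1 : K) ⊗ₜ[k] (algebraMap k K c)
    rw [Algebra.algebraMap_eq_smul_one, TensorProduct.smul_tmul]
  have hab : a ≫ Spec.map (CommRingCat.ofHom (algebraMap k K)) =
      b ≫ Spec.map (CommRingCat.ofHom (algebraMap k K)) := by
    simp only [a, b, ← Spec.map_comp, ← CommRingCat.ofHom_comp]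
    rw [RingHom.comp_assoc, RingHom.comp_assoc, hj]
  obtain ⟨L', _, e, w, hw₁, hw₂⟩ := H L a b hab
  let 𝒰 := U.affineOpenCover
  let x₀ : ↥(Spec (CommRingCat.of L')) := IsLocalRing.closedPoint L'
  let i := 𝒰.idx (w.base x₀)
  have hrange : Set.range w.base ⊆ Set.range (𝒰.f i).base := by
    rintro _ ⟨x, rfl⟩
    have : x = x₀ := Subsingleton.elim _ _
    rw [this]
    exact 𝒰.covers _
  let w' : Spec (CommRingCat.of L') ⟶ Spec (𝒰.X i) := IsOpenImmersion.lift (𝒰.f i) w hrange
  have hw' : w' ≫ 𝒰.f i = w := IsOpenImmersion.lift_fac _ _ _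
  let l : K →+* 𝒰.X i := (Spec.preimage (𝒰.f i ≫ u₁)).hom
  let r : K →+* 𝒰.X i := (Spec.preimage (𝒰.f i ≫ u₂)).hom
  let ω : 𝒰.X i →+* L' := (Spec.preimage w').hom
  let ε : L →+* L' := (Spec.preimage e).hom
  have hl : Spec.map (CommRingCat.ofHom l) = 𝒰.f i ≫ u₁ := Spec.map_preimage _
  have hr : Spec.map (CommRingCat.ofHom r) = 𝒰.f i ≫ u₂ := Spec.map_preimage _
  have hω : Spec.map (CommRingCat.ofHom ω) = w' := Spec.map_preimage _
  have hε : Spec.map (CommRingCat.ofHom ε) = e := Spec.map_preimage _
  have h1 : ω.comp l = ε.comp (iL.comp j₁) := by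
    have : Spec.map (CommRingCat.ofHom (ω.comp l)) = Spec.map (CommRingCat.ofHom (ε.comp (iL.comp j₁))) := by
      rw [CommRingCat.ofHom_comp, CommRingCat.ofHom_comp, Spec.map_comp, Spec.map_comp, hl, hω, hε,
        ← Category.assoc, hw', hw₁]
    exact congrArg CommRingCat.Hom.hom (Spec.map_injective this)
  have h2 : ω.comp r = ε.comp (iL.comp j₂) := by
    have : Spec.map (CommRingCat.ofHom (ω.comp r)) = Spec.map (CommRingCat.ofHom (ε.comp (iL.comp j₂))) := by
      rw [CommRingCat.ofHom_comp, CommRingCat.ofHom_comp, Spec.map_comp, Spec.map_comp, hr, hω, hε,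
        ← Category.assoc, hw', hw₂]
    exact congrArg CommRingCat.Hom.hom (Spec.map_injective this)
  have hlr : l.comp (algebraMap k K) = r.comp (algebraMap k K) := by
    have : Spec.map (CommRingCat.ofHom (l.comp (algebraMap k K))) =
        Spec.map (CommRingCat.ofHom (r.comp (algebraMap k K))) := by
      rw [CommRingCat.ofHom_comp, CommRingCat.ofHom_comp, Spec.map_comp, Spec.map_comp, hl, hr,
        Category.assoc, Category.assoc, hu]
    exact congrArg CommRingCat.Hom.hom (Spec.map_injective this)
  have hlft : l.FiniteType := by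
    have h : LocallyOfFiniteType (Spec.map (CommRingCat.ofHom l)) := by
      rw [hl]
      infer_instance
    exact (HasRingHomProperty.Spec_iff (P := @LocallyOfFiniteType)).1 h
  haveI : (RingHom.ker ω).IsPrime := RingHom.ker_isPrime ω
  refine false_of_transcendental_prime k K l r hlr hlft ā ha (RingHom.ker ω) ?_
  intro p hp hmem
  apply hp
  have hF : ω.comp (Polynomial.eval₂RingHom l (r ā)) = (ε.comp iL).comp (psi k K ā).toRingHom := by
    apply Polynomial.ringHom_ext
    · intro c
      have e1 : (psi k K ā) (C c) = j₁ c := by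
        rw [← Polynomial.algebraMap_eq, AlgHom.commutes]
        rfl
      have := congrArg (fun f => f c) h1
      simpa [e1] using this
    · have e2 : (psi k K ā) X = j₂ ā := psi_X k K ā
      have := congrArg (fun f => f ā) h2
      simpa [e2] using this
  have h3 : ε (iL (psi k K ā p)) = 0 := by
    have := congrArg (fun f => f p) hF
    simp only [RingHom.coe_comp, Function.comp_apply, Polynomial.coe_eval₂RingHom] at this
    rw [← RingHom.mem_ker.1 hmem]
    exact this.symm
  have h4 : iL (psi k K ā p) = 0 := (map_eq_zero_iff ε ε.injective).1 h3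
  have h5 : psi k K ā p ∈ 𝔮 := Ideal.algebraMap_residueField_eq_zero.1 h4
  have h6 : p ∈ 𝔮.comap (psi k K ā).toRingHom := h5
  rw [hcomap] at h6
  exact (Ideal.mem_bot).1 h6

end Groth.Agent.Helper19.KPt
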