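import Mathlib
import Groth.Agent.Lib.Helper19.KPt.Chart
import Groth.Agent.Lib.Helper19.KPt.Sch
import Groth.Agent.Lib.Helper19.SrcLoc
import Groth.Agent.Lib.Helper19.LocQNoeth
import Groth.Agent.Lib.Helper19.DiagLft

/-!
# A finite type field chart of a stack over an algebraically closed field with surjective diagonal is rational
(helper19)
-/

set_option autoImplicit false
set_option backward.isDefEq.respectTransparency false

universe w₅ v₅ w₄ v₄ w₃ v₃ w' v' w v u

open CategoryTheory CategoryTheory.Limits Functor AlgebraicGeometry Opposite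

namespace Groth.Agent.Helper19.KPt

open FibCat AlgSt Stk Groth.Agent.Helper19.FibLib Groth.Agent.Helper19.StLib Groth.Agent.Helper19.DiagAlgSp
  Groth.Agent.Helper19.PshSt Groth.Agent.Helper19.AlgP Groth.Agent.Helper19.ProdAlg
  Groth.Agent.Helper19.ImmLib Groth.Agent.Helper19.SpProps Groth.Agent.Helper19.ChartOver
  Groth.Agent.Helper16.AS Groth.Agent.Helper19.CancelLib Groth.Agent.Helper19.QcLib
  Groth.Agent.Helper19.SmLocLib Groth.Agent.Helper19.AlgStRep Groth.Agent.Helper19.PshLib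
  Groth.Agent.Helper19.CompLib Groth.Agent.Helper19.StPts Groth.Agent.Helper19.QcMor
  Groth.Agent.Helper19.QcPts Groth.Agent.Helper19.MonoQc Groth.Agent.Helper19.DiagQcN
  Groth.Agent.Helper19.LocQGen Groth.Agent.Helper19.SrcLoc Groth.Agent.Helper19.LocQCore

variable {S : Scheme.{u}}

/-- the functor of a morphism of schemes with `P` is representable with `P`. -/
theorem repByAlgSpWith_locP_overMap_of {P : MorphismProperty Scheme.{u}} (hP : Groth.Agent.Helper15.GoodP P)
    (hsrc : SrcEtLoc P) (hdesc : DescAtlas (S := S) (AlgSp.LocP P)) {U V : Over S} (b : U ⟶ V)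
    (hb : P b.left) : RepByAlgSpWith (AlgSp.LocP P) (overMap b) := by
  have h1 : AlgSp.LocP P ((AlgSp.yon S).map b) := locP_yon_map_of hP hsrc b hb
  have h2 : RepByAlgSpWith (AlgSp.LocP P) (ofSpMap ((AlgSp.yon S).map b)) :=
    (repByAlgSpWith_ofSpMap_iff (stableAlg_locP hP hsrc) hdesc
      (A := ⟨(AlgSp.yon S).obj V, AlgSp.IsAlgSpace.yon_obj V⟩)
      (B := ⟨(AlgSp.yon S).obj U, AlgSp.IsAlgSpace.yon_obj U⟩) ((AlgSp.yon S).map b)).2 h1
  have h3 := (repByAlgSpWith_comp_equiv (ofSpMap ((AlgSp.yon S).map b)) (toOverCat V)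
    (isEquivOver_toOverCat V)).2 h2
  have h4 := (repByAlgSpWith_equiv_comp (ofOverCat U) (isEquivOver_ofOverCat U) _).2 h3
  exact repByAlgSpWith_of_iso (overMapIso b).symm h4

theorem repByAlgSpWith_lft_of_smooth {𝒳 : BasedCategory.{v, w} (Over S)}
    {𝒴 : BasedCategory.{v', w'} (Over S)} (f : 𝒳 ⥤ᵇ 𝒴)
    (hf : RepByAlgSpWith (AlgSp.LocP @Smooth) f) :
    RepByAlgSpWith (AlgSp.LocP @LocallyOfFiniteType) f := by
  refine repByAlgSpWith_mono (fun _ _ a h => ?_) hf
  refine Groth.Agent.Helper15.locP_mono ?_ h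
  intro X Y g hg
  have : Smooth g := hg
  exact (inferInstance : LocallyOfFiniteType g)

/-- **the key step**: a chart `c : Spec K ⟶ 𝒵`, locally of finite type, of an algebraic stack over an algebraically
closed field `k` whose diagonal over `k` is surjective, has `K = k`. -/
theorem surjective_of_lft_chart {𝒵 : AlgSt.Cat S} (h𝒵 : IsAlgStack Scheme.fppfPrecoverage 𝒵)
    (k : Type u) [Field k] [IsAlgClosed k] (s : Spec (CommRingCat.of k) ⟶ S)
    (q : 𝒵 ⥤ᵇ overCat (Over.mk s)) (hΔ : AlgSt.IsSurjective (FibCat.diag q))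
    (K : Type u) [Field K] (sK : Spec (CommRingCat.of K) ⟶ S) (c : overCat (Over.mk sK) ⥤ᵇ 𝒵)
    (hc : RepByAlgSpWith (AlgSp.LocP @LocallyOfFiniteType) c)
    (π' : Over.mk sK ⟶ Over.mk s) (ηπ : BasedFunctor.comp c q ≅ overMap π') :
    Function.Surjective (Spec.preimage π'.left).hom := by
  let φ : k →+* K := (Spec.preimage π'.left).hom
  letI : Algebra k K := φ.toAlgebra
  have hπ : Spec.map (CommRingCat.ofHom (algebraMap k K)) = π'.left := Spec.map_preimage _
  have hsK : π'.left ≫ s = sK := Over.w π'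
  have hB : IsFibGrpd (overCat (Over.mk s)).p := isFibGrpd_overCat _
  have hKf : IsFibGrpd (overCat (Over.mk sK)).p := isFibGrpd_overCat _
  have hG : IsAlgStack Scheme.fppfPrecoverage (fp c c) :=
    isAlgStack_fp h𝒵.isStack h𝒵.diag (isAlgStack_overCat _) (isAlgStack_overCat _) c c
  obtain ⟨U, χ, hχ₁, hχ₂⟩ := hG.atlas
  have hUf : IsFibGrpd (overCat U).p := isFibGrpd_overCat U
  obtain ⟨u₁, ⟨η₁⟩⟩ := exists_overMap_iso (BasedFunctor.comp χ (fpFst c c))
  obtain ⟨u₂, ⟨η₂⟩⟩ := exists_overMap_iso (BasedFunctor.comp χ (fpSnd c c))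
  -- the first projection is locally of finite type
  have hlft : LocallyOfFiniteType u₁.left := by
    have h1 : RepByAlgSpWith (AlgSp.LocP @LocallyOfFiniteType) (BasedFunctor.comp χ (fpFst c c)) :=
      repByAlgSpWith_comp (stableAlg_locP Groth.Agent.Helper15.goodP_lft srcEtLoc_lft)
        (compAlg_locP Groth.Agent.Helper15.goodP_lft srcEtLoc_lft)
        (descAtlas_of_fpqc isLocalOnBase_fpqc_locP_lft) hUf hG.isStack.1 χ (fpFst c c)
        (repByAlgSpWith_lft_of_smooth χ hχ₁) (repByAlgSpWith_fpFst c c hc)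
    have h2 : RepByAlgSpWith (AlgSp.LocP @LocallyOfFiniteType) (overMap u₁) :=
      repByAlgSpWith_of_iso η₁.symm h1
    exact AlgSp.locP_yon_map (of_repByAlgSpWith_overMap
      (stableAlg_locP Groth.Agent.Helper15.goodP_lft srcEtLoc_lft) u₁ h2)
  -- the two projections agree over `Spec k`
  have hu : u₁ ≫ π' = u₂ ≫ π' := by
    refine eq_of_overMap_iso _ _ ?_
    have e1 : ∀ (u' : U ⟶ Over.mk sK) (pr : fp c c ⥤ᵇ overCat (Over.mk sK))
        (η' : BasedFunctor.comp χ pr ≅ overMap u'),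
        overMap (u' ≫ π') ≅ BasedFunctor.comp χ (BasedFunctor.comp (BasedFunctor.comp pr c) q) :=
      fun u' pr η' => (overMapComp u' π').symm ≪≫ whiskerRightIso η'.symm (overMap π') ≪≫
        eqToIso (BasedFunctor.comp_assoc _ _ _) ≪≫
        whiskerLeftIso χ (whiskerLeftIso pr ηπ.symm ≪≫ eqToIso (BasedFunctor.comp_assoc _ _ _).symm)
    exact e1 u₁ (fpFst c c) η₁ ≪≫ whiskerLeftIso χ (whiskerRightIso (fpIso c c) q) ≪≫
      (e1 u₂ (fpSnd c c) η₂).symm
  have hu' : u₁.left ≫ Spec.map (CommRingCat.ofHom (algebraMap k K)) =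
      u₂.left ≫ Spec.map (CommRingCat.ofHom (algebraMap k K)) := by
    rw [hπ]
    exact congrArg CommaMorphism.left hu
  have hsχ : AlgSt.IsSurjective χ := isSurjective_of_repByAlgSpWith hG.isStack.1 χ hχ₂
  refine surjective_algebraMap_of_cover k K U.left u₁.left u₂.left hu' ?_
  intro L _ a b hab
  rw [hπ] at hab
  let sL : Spec (CommRingCat.of L) ⟶ S := a ≫ sK
  let a' : Over.mk sL ⟶ Over.mk sK := Over.homMk a rfl
  let b' : Over.mk sL ⟶ Over.mk sK := Over.homMk b (by
    change b ≫ sK = a ≫ sK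
    rw [← hsK, ← Category.assoc, ← Category.assoc, hab])
  have hab' : a' ≫ π' = b' ≫ π' := by
    ext
    exact hab
  let A : overCat (Over.mk sL) ⥤ᵇ 𝒵 := BasedFunctor.comp (overMap a') c
  let Bc : overCat (Over.mk sL) ⥤ᵇ 𝒵 := BasedFunctor.comp (overMap b') c
  have θ₁ : ∀ (m : Over.mk sL ⟶ Over.mk sK),
      BasedFunctor.comp (BasedFunctor.comp (overMap m) c) q ≅ overMap (m ≫ π') := fun m =>
    eqToIso (BasedFunctor.comp_assoc _ _ _) ≪≫ whiskerLeftIso (overMap m) ηπ ≪≫ overMapComp m π'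
  let θ : BasedFunctor.comp A q ≅ BasedFunctor.comp Bc q :=
    θ₁ a' ≪≫ eqToIso (congrArg overMap hab') ≪≫ (θ₁ b').symm
  obtain ⟨Ω, _, str, w, ⟨α⟩⟩ := exists_field_iso_of_isSurjective_diag h𝒵.isStack.1 hB q hΔ A Bc θ
    (IsLocalRing.closedPoint L)
  let α' : BasedFunctor.comp (overMap (w ≫ a')) c ≅ BasedFunctor.comp (overMap (w ≫ b')) c :=
    whiskerRightIso (overMapComp w a').symm c ≪≫ eqToIso (BasedFunctor.comp_assoc _ _ _) ≪≫ α ≪≫
      eqToIso (BasedFunctor.comp_assoc _ _ _).symm ≪≫ whiskerRightIso (overMapComp w b') c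
  let σ : overCat (Over.mk str) ⥤ᵇ fp c c := fpLift (overMap (w ≫ a')) (overMap (w ≫ b')) α'
  obtain ⟨u', hu'p⟩ := hsχ (Points.ofChart σ (IsLocalRing.closedPoint Ω))
  let u₀ : ↥U.left := (chartPt U).symm u'
  have hu₀ : Points.ofChart χ u₀ = Points.ofChart σ (IsLocalRing.closedPoint Ω) := by
    rw [ofChart_eq, ← hu'p]
    exact congrArg _ (Homeomorph.apply_symm_apply _ _)
  obtain ⟨Ω', _, str', v, v', ⟨κ⟩⟩ := exists_field_iso_of_ofChart_eq hG.isStack.1 χ σ u₀
    (IsLocalRing.closedPoint Ω) hu₀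
  have key : ∀ (u' : U ⟶ Over.mk sK) (pr : fp c c ⥤ᵇ overCat (Over.mk sK))
      (η' : BasedFunctor.comp χ pr ≅ overMap u') (m : Over.mk str ⟶ Over.mk sK)
      (hm : BasedFunctor.comp σ pr = overMap m), v ≫ u' = v' ≫ m := fun u' pr η' m hm => by
    refine eq_of_overMap_iso _ _ ?_
    exact (overMapComp v u').symm ≪≫ whiskerLeftIso (overMap v) η'.symm ≪≫
      eqToIso (BasedFunctor.comp_assoc _ _ _).symm ≪≫ whiskerRightIso κ pr ≪≫
      eqToIso (by rw [BasedFunctor.comp_assoc, hm]) ≪≫ overMapComp v' m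
  have k1 := key u₁ (fpFst c c) η₁ (w ≫ a') rfl
  have k2 := key u₂ (fpSnd c c) η₂ (w ≫ b') rfl
  refine ⟨Ω', inferInstance, v'.left ≫ w.left, v.left, ?_, ?_⟩
  · have := congrArg CommaMorphism.left k1
    simpa [a'] using this
  · have := congrArg CommaMorphism.left k2
    simpa [b'] using this

end Groth.Agent.Helper19.KPt
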