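import Mathlib
import Groth.Agent.Lib.Helper19.KPt.Stack
import Groth.Agent.Lib.Helper19.StPtsInj

/-!
# Lifting points over an algebraically closed field along a universally injective morphism (helper19)
-/

set_option autoImplicit false
set_option backward.isDefEq.respectTransparency false

universe w₅ v₅ w₄ v₄ w₃ v₃ w' v' w v u

open CategoryTheory CategoryTheory.Limits Functor AlgebraicGeometry Opposite

namespace Groth.Agent.Helper19.KPt

open FibCat AlgSt Stk Groth.Agent.Helper19.FibLib Groth.Agent.Helper19.StLib Groth.Agent.Helper19.DiagAlgSp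
  Groth.Agent.Helper19.PshSt Groth.Agent.Helper19.AlgP Groth.Agent.Helper19.ProdAlg
  Groth.Agent.Helper19.ImmLib Groth.Agent.Helper19.SpProps Groth.Agent.Helper19.ChartOver
  Groth.Agent.Helper16.AS Groth.Agent.Helper19.CancelLib Groth.Agent.Helper19.QcLib
  Groth.Agent.Helper19.SmLocLib Groth.Agent.Helper19.AlgStRep Groth.Agent.Helper19.PshLib
  Groth.Agent.Helper19.CompLib Groth.Agent.Helper19.StPts Groth.Agent.Helper19.QcMor
  Groth.Agent.Helper19.QcPts Groth.Agent.Helper19.MonoQc Groth.Agent.Helper19.DiagQcN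
  Groth.Agent.Helper19.LocQGen Groth.Agent.Helper19.SrcLoc Groth.Agent.Helper19.LocQCore

variable {S : Scheme.{u}}

theorem isHomLift_id_of_eq {𝒜 ℬ : Type*} [Category 𝒜] [Category ℬ] (p : 𝒜 ⥤ ℬ) {a b : 𝒜} (φ : a ⟶ b)
    {R R' : ℬ} (h : R = R') (hφ : p.IsHomLift (𝟙 R) φ) : p.IsHomLift (𝟙 R') φ := by
  subst h
  exact hφ

/-- **S12833.** -/
theorem exists_lift_algClosed_point {𝒳 𝒴 : AlgSt.Cat S}
    (h𝒳 : IsAlgStack Scheme.fppfPrecoverage 𝒳) (h𝒴 : IsAlgStack Scheme.fppfPrecoverage 𝒴) (f : 𝒳 ⥤ᵇ 𝒴)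
    (hΔ : AlgSt.IsSurjective (FibCat.diag f))
    (k : Type u) [Field k] [IsAlgClosed k] (s : Spec (CommRingCat.of k) ⟶ S) (y : 𝒴.obj)
    (hy : 𝒴.p.obj y = Over.mk s)
    (h : AlgSt.Points.mk ⟨k, s, y, hy⟩ ∈ Set.range (AlgSt.Points.map f)) :
    ∃ (x : 𝒳.obj) (φ : f.obj x ⟶ y), 𝒳.p.obj x = Over.mk s ∧ 𝒴.p.IsHomLift (𝟙 (Over.mk s)) φ := by
  let B : Over S := Over.mk s
  obtain ⟨y', θy, hθy⟩ := Groth.Agent.Helper19.YonLib.exists_chart_of_obj h𝒴.isStack.1 y hy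
  let q : fp y' f ⥤ᵇ overCat B := fpFst y' f
  have hB := isAlgStack_overCat (S := S) B
  have h𝒵 : IsAlgStack Scheme.fppfPrecoverage (fp y' f) :=
    isAlgStack_fp h𝒴.isStack h𝒴.diag hB h𝒳 y' f
  have hΔq : AlgSt.IsSurjective (FibCat.diag q) :=
    isSurjective_diag_fpFst h𝒳.isStack.1 h𝒴.isStack.1 hB.isStack.1 f y' hΔ
  -- the fibre is non-empty
  obtain ⟨ξ, hξ⟩ := h
  let qq : FPt 𝒴 := ⟨k, s, y, hy⟩
  let t₀ : ↥B.left := IsLocalRing.closedPoint k
  have hpt : Points.ofChart y' t₀ = Points.mk qq := by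
    let m : ptObj B t₀ ⟶ Over.mk (𝟙 B) := Over.homMk (ptObj B t₀).hom
    exact Points.sound (rel_of_hom (q := qq) (y'.map m ≫ θy.hom))
  obtain ⟨ζ, -, -⟩ := exists_points_fp_of_map_eq h𝒳.isStack.1 h𝒴.isStack.1 hB.isStack.1 f y'
    (chartPt B t₀) ξ (by rw [← ofChart_eq, hpt, hξ])
  -- a closed point of an affine piece of an atlas
  obtain ⟨Z, z, hz₁, hz₂⟩ := h𝒵.atlas
  obtain ⟨p', -⟩ := (isSurjective_of_repByAlgSpWith h𝒵.isStack.1 z hz₂) ζ
  let z₀ : ↥Z.left := (chartPt Z).symm p'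
  let 𝒰 := Z.left.affineOpenCover
  let i := 𝒰.idx z₀
  obtain ⟨r₀, -⟩ := 𝒰.covers z₀
  haveI : Nontrivial (𝒰.X i) := (PrimeSpectrum.nonempty_iff_nontrivial).1 ⟨r₀⟩
  obtain ⟨m, hm⟩ := Ideal.exists_maximal (𝒰.X i)
  let K : Type u := (𝒰.X i) ⧸ m
  letI : Field K := Ideal.Quotient.field m
  let j₀ : Spec (CommRingCat.of K) ⟶ Spec (𝒰.X i) := Spec.map (CommRingCat.ofHom (Ideal.Quotient.mk m))
  haveI hj₀ : LocallyOfFiniteType j₀ :=
    (HasRingHomProperty.Spec_iff (P := @LocallyOfFiniteType)).2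
      (RingHom.FiniteType.of_surjective _ Ideal.Quotient.mk_surjective)
  let ι₀ : Spec (CommRingCat.of K) ⟶ Z.left := j₀ ≫ 𝒰.f i
  let sK : Spec (CommRingCat.of K) ⟶ S := ι₀ ≫ Z.hom
  let ι : Over.mk sK ⟶ Z := Over.homMk ι₀ rfl
  have hι : LocallyOfFiniteType ι.left := by
    change LocallyOfFiniteType (j₀ ≫ 𝒰.f i)
    infer_instance
  let c : overCat (Over.mk sK) ⥤ᵇ fp y' f := BasedFunctor.comp (overMap ι) z
  have hc : RepByAlgSpWith (AlgSp.LocP @LocallyOfFiniteType) c :=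
    repByAlgSpWith_comp (stableAlg_locP Groth.Agent.Helper15.goodP_lft srcEtLoc_lft)
      (compAlg_locP Groth.Agent.Helper15.goodP_lft srcEtLoc_lft)
      (descAtlas_of_fpqc isLocalOnBase_fpqc_locP_lft) (isFibGrpd_overCat _) (isFibGrpd_overCat _)
      (overMap ι) z
      (repByAlgSpWith_locP_overMap_of Groth.Agent.Helper15.goodP_lft srcEtLoc_lft
        (descAtlas_of_fpqc isLocalOnBase_fpqc_locP_lft) ι hι)
      (repByAlgSpWith_lft_of_smooth z hz₁)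
  obtain ⟨π', ⟨ηπ⟩⟩ := exists_overMap_iso (BasedFunctor.comp c q)
  have hsurj := surjective_of_lft_chart h𝒵 k s q hΔq K sK c hc π' ηπ
  -- the section
  have hbij : Function.Bijective (Spec.preimage π'.left).hom := ⟨RingHom.injective _, hsurj⟩
  let e : k ≃+* K := RingEquiv.ofBijective (Spec.preimage π'.left).hom hbij
  let σ₀ : Spec (CommRingCat.of k) ⟶ Spec (CommRingCat.of K) :=
    Spec.map (CommRingCat.ofHom e.symm.toRingHom)
  have hσ : σ₀ ≫ π'.left = 𝟙 _ := by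
    have h1 : π'.left = Spec.map (CommRingCat.ofHom (e : k →+* K)) := (Spec.map_preimage π'.left).symm
    rw [h1, ← Spec.map_comp, ← CommRingCat.ofHom_comp]
    have h2 : (e.symm.toRingHom).comp (e : k →+* K) = RingHom.id k := by
      ext a
      exact e.symm_apply_apply a
    rw [h2]
    exact Spec.map_id _
  let σ : B ⟶ Over.mk sK := Over.homMk σ₀ (by
    change σ₀ ≫ sK = s
    have h1 : π'.left ≫ s = sK := Over.w π'
    rw [← h1, ← Category.assoc, hσ, Category.id_comp])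
  have hσπ : σ ≫ π' = 𝟙 B := by
    ext
    exact hσ
  -- the object
  let o : (overCat (Over.mk sK)).obj := Over.mk σ
  let zz : (fp y' f).obj := c.obj o
  have hzz : (fp y' f).p.obj zz = B := c.w_obj o
  have hP : (overCat B).p.obj zz.obj.fst = B := (q.w_obj zz).trans hzz
  have hx : 𝒳.p.obj zz.obj.snd = B := ((fpSnd y' f).w_obj zz).trans hzz
  have hiso : 𝒴.p.IsHomLift (𝟙 B) zz.obj.iso.hom :=
    isHomLift_id_of_eq 𝒴.p _ hP zz.property
  haveI := hiso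
  have hinv : 𝒴.p.IsHomLift (𝟙 B) zz.obj.iso.inv := inferInstance
  let μ : (overMap π').obj o ⟶ Over.mk (𝟙 B) := Over.homMk (𝟙 B) (by
    change 𝟙 B ≫ 𝟙 B = σ ≫ π'
    rw [hσπ, Category.id_comp])
  have hμ : (overCat B).p.IsHomLift (𝟙 B) μ :=
    IsHomLift.of_fac _ _ _ rfl rfl (by simp; rfl)
  have hη : (overCat B).p.IsHomLift (𝟙 B) (ηπ.hom.toNatTrans.app o) := ηπ.hom.isHomLift' o
  let τ : zz.obj.fst ⟶ Over.mk (𝟙 B) := ηπ.hom.toNatTrans.app o ≫ μ
  have hτ : (overCat B).p.IsHomLift (𝟙 B) τ := by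
    have := IsHomLift.comp (p := (overCat B).p) (𝟙 B) (𝟙 B) (ηπ.hom.toNatTrans.app o) μ
    rw [Category.comp_id] at this
    exact this
  haveI := hτ
  have hyτ : 𝒴.p.IsHomLift (𝟙 B) (y'.map τ) := inferInstance
  haveI := hyτ
  haveI := hinv
  haveI := hθy
  refine ⟨zz.obj.snd, zz.obj.iso.inv ≫ y'.map τ ≫ θy.hom, hx, ?_⟩
  have h1 := IsHomLift.comp (p := 𝒴.p) (𝟙 B) (𝟙 B) (y'.map τ) θy.hom
  rw [Category.comp_id] at h1
  haveI := h1
  have h2 := IsHomLift.comp (p := 𝒴.p) (𝟙 B) (𝟙 B) zz.obj.iso.inv (y'.map τ ≫ θy.hom)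
  rw [Category.comp_id] at h2
  exact h2

end Groth.Agent.Helper19.KPt
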